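import Mathlib
import Groth.Agent.FlatLib.Nagata

/-! Noether normalisation inside a prescribed subring containing the generators
(e.g. normalising variables which are polynomials with integer coefficients). -/

set_option autoImplicit false
universe u

open Polynomial MvPolynomial FlatLib.Nagata

namespace NoethNormLib

variable {k : Type u} [Field k]

theorem leadingCoeff_T {n : ℕ} (f : MvPolynomial (Fin (n + 1)) k) (fne : f ≠ 0) :
    ∃ c : k, c ≠ 0 ∧ (finSuccEquiv k n (T f f)).leadingCoeff = MvPolynomial.C c := by
  classical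
  obtain ⟨v, vin, vs⟩ := Finset.exists_max_image f.support
    (fun v ↦ (T f ((MvPolynomial.monomial v) (MvPolynomial.coeff v f))).degreeOf 0)
    (MvPolynomial.support_nonempty.mpr fne)
  set h := fun w ↦ (MvPolynomial.monomial w) (MvPolynomial.coeff w f)
  simp only [← natDegree_finSuccEquiv] at vs
  replace vs : ∀ x ∈ f.support \ {v}, (finSuccEquiv k n ((T f) (h x))).degree <
      (finSuccEquiv k n ((T f) (h v))).degree := by
    intro x hx
    obtain ⟨h1, h2⟩ := Finset.mem_sdiff.mp hx
    apply Polynomial.degree_lt_degree <| lt_of_le_of_ne (vs x h1) ?_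
    simpa only [natDegree_finSuccEquiv]
      using degreeOf_t_ne_of_ne f _ _ h1 vin <| by simpa using h2
  have coeff : (finSuccEquiv k n ((T f) (h v + ∑ x ∈ f.support \ {v}, h x))).leadingCoeff =
      (finSuccEquiv k n ((T f) (h v))).leadingCoeff := by
    simp only [map_add, map_sum]
    rw [add_comm]
    apply Polynomial.leadingCoeff_add_of_degree_lt <| (lt_of_le_of_lt <| Polynomial.degree_sum_le _ _) ?_
    have h2 : h v ≠ 0 := by simpa [h] using MvPolynomial.mem_support_iff.mp vin
    replace h2 : (finSuccEquiv k n ((T f) (h v))) ≠ 0 := fun eq ↦ h2 <|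
      by simpa only [map_eq_zero_iff _ (AlgEquiv.injective _)] using eq
    exact (Finset.sup_lt_iff <| Ne.bot_lt (fun x ↦ h2 <| Polynomial.degree_eq_bot.mp x)).mpr vs
  nth_rw 2 [← f.support_sum_monomial_coeff]
  rw [Finset.sum_eq_add_sum_sdiff_singleton_of_mem vin h]
  rw [leadingCoeff_finSuccEquiv_t] at coeff
  exact ⟨_, MvPolynomial.mem_support_iff.mp vin, coeff.trans (by rw [MvPolynomial.algebraMap_eq])⟩

/-- Noether normalisation with the normalising elements inside a given subring. -/
theorem exists_injective_integral_aeval_mem (n : ℕ) {S : Type u} [CommRing S] [Nontrivial S]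
    [Algebra k S] (R0 : Subring S) (x : Fin n → S) (hx : ∀ i, x i ∈ R0)
    (hint : (MvPolynomial.aeval x : MvPolynomial (Fin n) k →ₐ[k] S).toRingHom.IsIntegral) :
    ∃ (r : ℕ) (y : Fin r → S), (∀ i, y i ∈ R0) ∧
      Function.Injective (MvPolynomial.aeval y : MvPolynomial (Fin r) k →ₐ[k] S) ∧
      (MvPolynomial.aeval y : MvPolynomial (Fin r) k →ₐ[k] S).toRingHom.IsIntegral := by
  classical
  induction n with
  | zero =>
    refine ⟨0, x, hx, ?_, hint⟩
    intro a b hab
    rw [eq_C_of_isEmpty a, eq_C_of_isEmpty b] at hab ⊢
    rw [MvPolynomial.aeval_C, MvPolynomial.aeval_C] at hab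
    rw [(algebraMap k S).injective hab]
  | succ n ih =>
    by_cases hinj : Function.Injective (MvPolynomial.aeval x : MvPolynomial (Fin (n+1)) k →ₐ[k] S)
    · exact ⟨n + 1, x, hx, hinj, hint⟩
    obtain ⟨f, hf, hf0⟩ : ∃ f, MvPolynomial.aeval x f = 0 ∧ f ≠ 0 := by
      rw [injective_iff_map_eq_zero] at hinj
      push Not at hinj
      exact hinj
    let r : Fin (n + 1) → ℕ := fun i => (2 + f.totalDegree) ^ i.1
    let z : Fin (n + 1) → S := fun i => MvPolynomial.aeval x (T1 f (-1) (MvPolynomial.X i))
    have hz0 : z 0 = x 0 := by simp [z]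
    have hzs : ∀ i : Fin n, z i.succ = x i.succ - x 0 ^ r i.succ := by
      intro i; simp [z, r, Fin.succ_ne_zero, sub_eq_add_neg]
    have hzT : (MvPolynomial.aeval z).comp (T f).toAlgHom = MvPolynomial.aeval x := by
      have h1 : (MvPolynomial.aeval z : MvPolynomial (Fin (n+1)) k →ₐ[k] S) =
          (MvPolynomial.aeval x).comp (T1 f (-1)) := by
        refine MvPolynomial.algHom_ext fun i => ?_
        rw [MvPolynomial.aeval_X]; rfl
      ext1 i
      rw [h1]
      show MvPolynomial.aeval x ((T f).symm ((T f) (MvPolynomial.X i))) = _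
      rw [AlgEquiv.symm_apply_apply]
    let y : Fin n → S := fun i => z i.succ
    have hy : ∀ i, y i ∈ R0 := fun i => by
      show z i.succ ∈ R0
      rw [hzs]
      exact sub_mem (hx _) (pow_mem (hx _) _)
    let φ : MvPolynomial (Fin n) k →ₐ[k] S := MvPolynomial.aeval y
    refine ih y hy ?_
    letI : Algebra (MvPolynomial (Fin n) k) S := φ.toRingHom.toAlgebra
    haveI : IsScalarTower k (MvPolynomial (Fin n) k) S :=
      IsScalarTower.of_algebraMap_eq fun c => (φ.commutes c).symm
    have hsplit : ∀ g, MvPolynomial.aeval z g = Polynomial.aeval (x 0) (finSuccEquiv k n g) := by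
      intro g
      have h2 : (MvPolynomial.aeval z : MvPolynomial (Fin (n+1)) k →ₐ[k] S) =
          ((Polynomial.aeval (R := MvPolynomial (Fin n) k) (x 0)).restrictScalars k).comp
            (finSuccEquiv k n).toAlgHom := by
        refine MvPolynomial.algHom_ext fun i => ?_
        cases i using Fin.cases with
        | zero => simp [hz0, finSuccEquiv_X_zero]
        | succ i =>
          simp only [AlgHom.comp_apply, AlgEquiv.coe_toAlgHom, finSuccEquiv_X_succ,
            AlgHom.restrictScalars_apply, Polynomial.aeval_C, MvPolynomial.aeval_X]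
          show z i.succ = φ (MvPolynomial.X i)
          rw [MvPolynomial.aeval_X]
      exact DFunLike.congr_fun h2 g
    obtain ⟨c, hc, hlead⟩ := leadingCoeff_T f hf0
    have hu : IsUnit (finSuccEquiv k n (T f f)).leadingCoeff := by
      rw [hlead]; exact hc.isUnit.map MvPolynomial.C
    have hx0 : IsIntegral (MvPolynomial (Fin n) k) (x 0) := by
      refine ⟨hu.unit⁻¹.val • finSuccEquiv k n (T f f), monic_of_isUnit_leadingCoeff_inv_smul hu, ?_⟩
      rw [← Polynomial.aeval_def, map_smul, ← hsplit]
      show _ • ((MvPolynomial.aeval z).comp (T f).toAlgHom) f = 0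
      rw [hzT, hf, smul_zero]
    let C' := (integralClosure (MvPolynomial (Fin n) k) S).restrictScalars k
    have hmem : ∀ i, x i ∈ C' := by
      intro i
      cases i using Fin.cases with
      | zero => exact hx0
      | succ i =>
        rw [show x i.succ = z i.succ + x 0 ^ r i.succ by rw [hzs]; ring]
        refine IsIntegral.add ?_ (hx0.pow _)
        have : z i.succ = algebraMap (MvPolynomial (Fin n) k) S (MvPolynomial.X i) := by
          show y i = φ (MvPolynomial.X i); simp [φ]
        rw [this]
        exact isIntegral_algebraMap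
    have hall : ∀ g : MvPolynomial (Fin (n + 1)) k, MvPolynomial.aeval x g ∈ C' := by
      intro g
      induction g using MvPolynomial.induction_on with
      | C c => rw [MvPolynomial.aeval_C]; exact C'.algebraMap_mem c
      | add a b ha hb => rw [map_add]; exact add_mem ha hb
      | mul_X a i ha => rw [map_mul, MvPolynomial.aeval_X]; exact mul_mem ha (hmem i)
    haveI : Algebra.IsIntegral (integralClosure (MvPolynomial (Fin n) k) S) S := by
      refine ⟨fun s => ?_⟩
      let ψ : MvPolynomial (Fin (n+1)) k →+* integralClosure (MvPolynomial (Fin n) k) S :=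
        ((MvPolynomial.aeval x).toRingHom).codRestrict _ hall
      have h := RingHom.IsIntegral.tower_top ψ (integralClosure (MvPolynomial (Fin n) k) S).val.toRingHom
        (by exact hint)
      exact h s
    intro s
    exact isIntegral_trans (A := integralClosure (MvPolynomial (Fin n) k) S) s
      (Algebra.IsIntegral.isIntegral s)

end NoethNormLib
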