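import Mathlib
import Groth.Agent.NoethNormLib.Adapted

/-! Noether normalisation keeping the classes of some variables modulo an ideal. -/

set_option autoImplicit false
universe u

open Polynomial MvPolynomial FlatLib.Nagata

namespace NoethNormLib

variable {k : Type u} [Field k]

/-- Noether normalisation in which the first variables lie in an ideal `q` and the last `r`
keep their classes modulo `q`, these classes being algebraically independent. -/
theorem exists_injective_integral_aeval_mod (n : ℕ) {S : Type u} [CommRing S] [Nontrivial S]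
    [Algebra k S] (q : Ideal S) (r : ℕ) (hrn : r ≤ n) (t : Fin r → S)
    (htq : Function.Injective ((Ideal.Quotient.mkₐ k q).comp (MvPolynomial.aeval t)))
    (x : Fin n → S) (hq : ∀ i : Fin n, i.val + r < n → x i ∈ q)
    (ht : ∀ (i : Fin n) (j : Fin r), i.val + r = n + j.val → x i - t j ∈ q)
    (hint : (MvPolynomial.aeval x : MvPolynomial (Fin n) k →ₐ[k] S).toRingHom.IsIntegral) :
    ∃ (m : ℕ) (y : Fin m → S), r ≤ m ∧ (∀ i : Fin m, i.val + r < m → y i ∈ q) ∧
      (∀ (i : Fin m) (j : Fin r), i.val + r = m + j.val → y i - t j ∈ q) ∧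
      Function.Injective (MvPolynomial.aeval y : MvPolynomial (Fin m) k →ₐ[k] S) ∧
      (MvPolynomial.aeval y : MvPolynomial (Fin m) k →ₐ[k] S).toRingHom.IsIntegral := by
  classical
  induction n with
  | zero =>
    refine ⟨0, x, hrn, hq, ht, ?_, hint⟩
    intro a b hab
    rw [eq_C_of_isEmpty a, eq_C_of_isEmpty b] at hab ⊢
    rw [MvPolynomial.aeval_C, MvPolynomial.aeval_C] at hab
    rw [(algebraMap k S).injective hab]
  | succ n ih =>
    by_cases hinj : Function.Injective (MvPolynomial.aeval x : MvPolynomial (Fin (n+1)) k →ₐ[k] S)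
    · exact ⟨n + 1, x, hrn, hq, ht, hinj, hint⟩
    have hrlt : r < n + 1 := by
      refine lt_of_le_of_ne hrn fun heq => hinj ?_
      subst heq
      have h1 : (Ideal.Quotient.mkₐ k q).comp (MvPolynomial.aeval x) =
          (Ideal.Quotient.mkₐ k q).comp (MvPolynomial.aeval t) := by
        refine MvPolynomial.algHom_ext fun i => ?_
        simp only [AlgHom.comp_apply, MvPolynomial.aeval_X, Ideal.Quotient.mkₐ_eq_mk]
        exact Ideal.Quotient.eq.mpr (ht i i (by omega))
      intro a b hab
      apply htq
      rw [← h1, AlgHom.comp_apply, AlgHom.comp_apply, hab]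
    have hx0q : x 0 ∈ q := hq 0 (by simp only [Fin.val_zero]; omega)
    obtain ⟨f, hf, hf0⟩ : ∃ f, MvPolynomial.aeval x f = 0 ∧ f ≠ 0 := by
      rw [injective_iff_map_eq_zero] at hinj
      push Not at hinj
      exact hinj
    let e : Fin (n + 1) → ℕ := fun i => (2 + f.totalDegree) ^ i.1
    let z : Fin (n + 1) → S := fun i => MvPolynomial.aeval x (T1 f (-1) (MvPolynomial.X i))
    have hz0 : z 0 = x 0 := by simp [z]
    have hzs : ∀ i : Fin n, z i.succ = x i.succ - x 0 ^ e i.succ := by
      intro i; simp [z, e, Fin.succ_ne_zero, sub_eq_add_neg]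
    have hzT : (MvPolynomial.aeval z).comp (T f).toAlgHom = MvPolynomial.aeval x := by
      have h1 : (MvPolynomial.aeval z : MvPolynomial (Fin (n+1)) k →ₐ[k] S) =
          (MvPolynomial.aeval x).comp (T1 f (-1)) := by
        refine MvPolynomial.algHom_ext fun i => ?_
        rw [MvPolynomial.aeval_X]; rfl
      ext1 i
      rw [h1]
      show MvPolynomial.aeval x ((T f).symm ((T f) (MvPolynomial.X i))) = _
      rw [AlgEquiv.symm_apply_apply]
    let y : Fin n → S := fun i => z i.succ
    let φ : MvPolynomial (Fin n) k →ₐ[k] S := MvPolynomial.aeval y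
    have hy1 : ∀ i : Fin n, i.val + r < n → y i ∈ q := fun i hi => by
      show z i.succ ∈ q
      rw [hzs]
      exact sub_mem (hq _ (by rw [Fin.val_succ]; omega)) (Ideal.pow_mem_of_mem q hx0q _ (Nat.pow_pos (by omega)))
    have hy2 : ∀ (i : Fin n) (j : Fin r), i.val + r = n + j.val → y i - t j ∈ q := fun i j hij => by
      show z i.succ - t j ∈ q
      rw [hzs, sub_right_comm]
      exact sub_mem (ht i.succ j (by rw [Fin.val_succ]; omega)) (Ideal.pow_mem_of_mem q hx0q _ (Nat.pow_pos (by omega)))
    refine ih (by omega) y hy1 hy2 ?_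
    letI : Algebra (MvPolynomial (Fin n) k) S := φ.toRingHom.toAlgebra
    haveI : IsScalarTower k (MvPolynomial (Fin n) k) S :=
      IsScalarTower.of_algebraMap_eq fun c => (φ.commutes c).symm
    have hsplit : ∀ g, MvPolynomial.aeval z g = Polynomial.aeval (x 0) (finSuccEquiv k n g) := by
      intro g
      have h2 : (MvPolynomial.aeval z : MvPolynomial (Fin (n+1)) k →ₐ[k] S) =
          ((Polynomial.aeval (R := MvPolynomial (Fin n) k) (x 0)).restrictScalars k).comp
            (finSuccEquiv k n).toAlgHom := by
        refine MvPolynomial.algHom_ext fun i => ?_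
        cases i using Fin.cases with
        | zero => simp [hz0, finSuccEquiv_X_zero]
        | succ i =>
          simp only [AlgHom.comp_apply, AlgEquiv.coe_toAlgHom, finSuccEquiv_X_succ,
            AlgHom.restrictScalars_apply, Polynomial.aeval_C, MvPolynomial.aeval_X]
          show z i.succ = φ (MvPolynomial.X i)
          rw [MvPolynomial.aeval_X]
      exact DFunLike.congr_fun h2 g
    obtain ⟨c, hc, hlead⟩ := leadingCoeff_T f hf0
    have hu : IsUnit (finSuccEquiv k n (T f f)).leadingCoeff := by
      rw [hlead]; exact hc.isUnit.map MvPolynomial.C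
    have hx0 : IsIntegral (MvPolynomial (Fin n) k) (x 0) := by
      refine ⟨hu.unit⁻¹.val • finSuccEquiv k n (T f f), monic_of_isUnit_leadingCoeff_inv_smul hu, ?_⟩
      rw [← Polynomial.aeval_def, map_smul, ← hsplit]
      show _ • ((MvPolynomial.aeval z).comp (T f).toAlgHom) f = 0
      rw [hzT, hf, smul_zero]
    let C' := (integralClosure (MvPolynomial (Fin n) k) S).restrictScalars k
    have hmem : ∀ i, x i ∈ C' := by
      intro i
      cases i using Fin.cases with
      | zero => exact hx0
      | succ i =>
        rw [show x i.succ = z i.succ + x 0 ^ e i.succ by rw [hzs]; ring]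
        refine IsIntegral.add ?_ (hx0.pow _)
        have : z i.succ = algebraMap (MvPolynomial (Fin n) k) S (MvPolynomial.X i) := by
          show y i = φ (MvPolynomial.X i); simp [φ]
        rw [this]
        exact isIntegral_algebraMap
    have hall : ∀ g : MvPolynomial (Fin (n + 1)) k, MvPolynomial.aeval x g ∈ C' := by
      intro g
      induction g using MvPolynomial.induction_on with
      | C c => rw [MvPolynomial.aeval_C]; exact C'.algebraMap_mem c
      | add a b ha hb => rw [map_add]; exact add_mem ha hb
      | mul_X a i ha => rw [map_mul, MvPolynomial.aeval_X]; exact mul_mem ha (hmem i)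
    haveI : Algebra.IsIntegral (integralClosure (MvPolynomial (Fin n) k) S) S := by
      refine ⟨fun s => ?_⟩
      let ψ : MvPolynomial (Fin (n+1)) k →+* integralClosure (MvPolynomial (Fin n) k) S :=
        ((MvPolynomial.aeval x).toRingHom).codRestrict _ hall
      have h := RingHom.IsIntegral.tower_top ψ (integralClosure (MvPolynomial (Fin n) k) S).val.toRingHom
        (by exact hint)
      exact h s
    intro s
    exact isIntegral_trans (A := integralClosure (MvPolynomial (Fin n) k) S) s
      (Algebra.IsIntegral.isIntegral s)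

end NoethNormLib
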